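import Mathlib
import Cfsg.Agent.Lib.SemisimpleClasses.Conjugacy
import Cfsg.Agent.Lib.SemisimpleClasses.Count
import Cfsg.Agent.Lib.Classes.SympSemisimple
import Cfsg.Agent.S2589

/-!
# The classes of elements of order prime to `p` in `Sp₂ₙ(q)`
-/

set_option autoImplicit false

namespace CfsgLib.SemisimpleClasses.Symp

open Polynomial Matrix

section Conj

universe u
variable {K : Type u} [Field K] [Fintype K] (p : ℕ) [Fact p.Prime] [CharP K p]

/-- `p'`-elements of `Sp` with the same characteristic polynomial are conjugate. -/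
theorem isConj_Sp {n : ℕ} (g h : ↥(Matrix.symplecticGroup (Fin n) K)) (hg : (orderOf g).Coprime p)
    (hh : (orderOf h).Coprime p)
    (hc : (g : Matrix (Fin n ⊕ Fin n) (Fin n ⊕ Fin n) K).charpoly =
      (h : Matrix (Fin n ⊕ Fin n) (Fin n ⊕ Fin n) K).charpoly) : IsConj g h := by
  have hss : ∀ a : ↥(Matrix.symplecticGroup (Fin n) K), (orderOf a).Coprime p →
      Module.End.IsSemisimple
        (Matrix.toLinAlgEquiv' (a : Matrix (Fin n ⊕ Fin n) (Fin n ⊕ Fin n) K)) := by
    intro a ha
    have hm : ((orderOf a : ℕ) : K) ≠ 0 := fun h => by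
      rw [CharP.cast_eq_zero_iff K p] at h
      exact (Fact.out : p.Prime).not_dvd_one (ha ▸ Nat.dvd_gcd h dvd_rfl)
    refine Module.End.isSemisimple_of_squarefree_aeval_eq_zero
      (p := X ^ orderOf a - C (1 : K)) (separable_X_pow_sub_C 1 hm one_ne_zero).squarefree ?_
    rw [map_sub, map_pow, aeval_X, aeval_C, map_one, ← map_pow, ← SubmonoidClass.coe_pow,
      pow_orderOf_eq_one, OneMemClass.coe_one, map_one, sub_self]
  obtain ⟨e, he⟩ := exists_equiv_of_charpoly_eq _ _ _ (hss g hg) (hss h hh)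
    (le_refl _) ((Matrix.charpoly_toLin' _).trans (hc.trans (Matrix.charpoly_toLin' _).symm))
  have h1 : ∀ f f' : (Fin n ⊕ Fin n → K) ≃ₗ[K] (Fin n ⊕ Fin n → K), (∀ x, f (f' x) = x) →
      LinearMap.toMatrixAlgEquiv' f.toLinearMap * LinearMap.toMatrixAlgEquiv' f'.toLinearMap = 1 :=
    fun f f' hff => by
      rw [← map_mul, show f.toLinearMap * f'.toLinearMap = 1 from LinearMap.ext hff, map_one]
  let U : (Matrix (Fin n ⊕ Fin n) (Fin n ⊕ Fin n) K)ˣ :=
    ⟨_, _, h1 e e.symm e.apply_symm_apply, h1 e.symm e e.symm_apply_apply⟩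
  refine (Cfsg.Agent.S2589.result g h hg).2 ⟨U, Matrix.toLinAlgEquiv'.injective ?_⟩
  rw [map_mul, map_mul]
  simp only [U, Matrix.toLinAlgEquiv'_toMatrixAlgEquiv']
  exact LinearMap.ext he

end Conj

section Exists

universe v
variable {K : Type v} [Field K]

/-- A self-reciprocal monic polynomial is the characteristic polynomial of a symplectic matrix. -/
theorem exists_sp_charpoly {n : ℕ} {χ : K[X]} (hm : χ.Monic) (hd : χ.natDegree = 2 * n)
    (hsym : ∀ k ≤ 2 * n, χ.coeff k = χ.coeff (2 * n - k)) :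
    ∃ g : ↥(Matrix.symplecticGroup (Fin n) K),
      (g : Matrix (Fin n ⊕ Fin n) (Fin n ⊕ Fin n) K).charpoly = χ := by
  classical
  rcases Nat.eq_zero_or_pos n with rfl | hn
  · exact ⟨1, by rw [hm.natDegree_eq_zero.1 hd]; simp [Matrix.charpoly]⟩
  set A := AdjoinRoot χ
  set x : A := AdjoinRoot.root χ with hx
  set N := 2 * n with hN
  have hcN : χ.coeff N = 1 := by rw [← hd]; exact hm.coeff_natDegree
  have hc0 : χ.coeff 0 = 1 := by rw [hsym 0 (Nat.zero_le _), Nat.sub_zero, hcN]
  set y : A := AdjoinRoot.mk χ (-χ.divX) with hy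
  have hxy : x * y = 1 := by
    rw [hx, ← AdjoinRoot.mk_X, hy, ← map_mul, ← map_one (AdjoinRoot.mk χ), AdjoinRoot.mk_eq_mk]
    refine ⟨-1, ?_⟩
    conv_rhs => rw [← X_mul_divX_add χ, hc0, map_one]
    ring
  have hrev : χ.reverse = χ := by
    ext k
    rw [coeff_reverse, hd]
    by_cases hk : k ≤ N
    · rw [revAt_le hk, ← hsym k hk]
    · rw [revAt_eq_self_of_lt (by omega)]
  have hyroot : eval₂ (AdjoinRoot.of χ) y χ = 0 := by
    letI : Invertible x := ⟨y, by rw [mul_comm, hxy], hxy⟩
    have h := (eval₂_reverse_eq_zero_iff (AdjoinRoot.of χ) x χ).2 (AdjoinRoot.eval₂_root χ)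
    rw [hrev] at h
    exact h
  let σ : A →ₐ[K] A := AdjoinRoot.liftAlgHom χ (Algebra.ofId K A) y hyroot
  have hσx : σ x = y := AdjoinRoot.liftAlgHom_root _ _ _ _
  have hσy : σ y = x := by
    have h := congrArg σ hxy
    rw [map_mul, hσx, map_one] at h
    calc σ y = (x * y) * σ y := by rw [hxy, one_mul]
      _ = x * (y * σ y) := mul_assoc _ _ _
      _ = x := by rw [h, mul_one]
  have hσσ : ∀ a, σ (σ a) = a := fun a => by
    have : σ.comp σ = AlgHom.id K A := AdjoinRoot.algHom_ext (by rw [AlgHom.comp_apply]; exact (congrArg σ hσx).trans hσy)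
    exact AlgHom.congr_fun this a
  let top : A →ₗ[K] K := (Polynomial.lcoeff K (N - 1)).comp (AdjoinRoot.modByMonicHom hm)
  have htop : ∀ P : K[X], P.natDegree < N → top (AdjoinRoot.mk χ P) = P.coeff (N - 1) := by
    intro P hP
    show (AdjoinRoot.modByMonicHom hm (AdjoinRoot.mk χ P)).coeff (N - 1) = _
    rw [AdjoinRoot.modByMonicHom_mk, (modByMonic_eq_self_iff hm).2]
    exact degree_lt_degree (by omega)
  have htpow : ∀ i, i < N → top (x ^ i) = if i = N - 1 then 1 else 0 := by
    intro i hi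
    rw [hx, ← AdjoinRoot.mk_X, ← map_pow, htop _ (by simpa using hi), coeff_X_pow]
    simp [eq_comm]
  let φ : A →ₗ[K] K := top.comp (LinearMap.mulLeft K (x ^ (n - 1)))
  have hφ : ∀ a, φ a = top (x ^ (n - 1) * a) := fun a => rfl
  have hxyk : ∀ k, x ^ k * y ^ k = 1 := fun k => by rw [← mul_pow, hxy, one_pow]
  let pb := AdjoinRoot.powerBasis' hm
  have hpd : pb.dim = N := hd
  have hpg : pb.gen = x := rfl
  have hanti : ∀ a, φ (σ a) = -φ a := by
    suffices h : (φ.comp σ.toLinearMap) ∘ₗ LinearMap.mulLeft K (y ^ (n - 1)) =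
        (-φ) ∘ₗ LinearMap.mulLeft K (y ^ (n - 1)) by
      intro a
      have := LinearMap.congr_fun h (x ^ (n - 1) * a)
      simpa [← mul_assoc, mul_comm (y ^ (n - 1)) (x ^ (n - 1)), hxyk] using this
    refine pb.basis.ext fun i => ?_
    have hi : (i : ℕ) < N := hpd ▸ i.isLt
    simp only [LinearMap.comp_apply, LinearMap.mulLeft_apply, PowerBasis.basis_eq_pow, hpg,
      AlgHom.toLinearMap_apply, LinearMap.neg_apply, hφ, map_mul, map_pow, hσy, hσx]
    rw [← mul_assoc (x ^ (n - 1)) (y ^ (n - 1)), hxyk, one_mul, htpow _ hi, ← mul_assoc, ← pow_add]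
    by_cases hi' : (i : ℕ) = N - 1
    · rw [if_pos hi', show (i : ℕ) = (n - 1 + (n - 1)) + 1 by omega, pow_succ, ← mul_assoc, hxyk,
        one_mul, hy, htop _ (by
          rw [natDegree_neg, natDegree_divX_eq_natDegree_tsub_one]; omega),
        coeff_neg, coeff_divX, show N - 1 + 1 = N by omega, hcN]
    · rw [if_neg hi', neg_zero, show n - 1 + (n - 1) = (n - 1 + (n - 1) - i) + i by omega, pow_add,
        mul_assoc, hxyk, mul_one, htpow _ (by omega), if_neg (by omega)]
  let B : LinearMap.BilinForm K A := ((LinearMap.mul K A).compl₂ σ.toLinearMap).compr₂ φ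
  have hB : ∀ u v, B u v = φ (u * σ v) := fun u v => rfl
  have hflip : ∀ u v, φ (u * σ v) + φ (v * σ u) = 0 := fun u v => by
    rw [show v * σ u = σ (u * σ v) by rw [map_mul, hσσ, mul_comm], hanti, add_neg_cancel]
  have halt : B.IsAlt := by
    intro u
    rw [hB]
    rw [← pb.basis.sum_repr u]
    refine Finset.sum_induction _ (fun a => φ (a * σ a) = 0) (fun a b ha hb => ?_) (by simp)
      fun i _ => ?_
    · rw [map_add, add_mul, mul_add, mul_add, map_add, map_add, map_add, ha, hb, zero_add, add_zero,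
        hflip]
    · rw [map_smul, PowerBasis.basis_eq_pow, hpg, map_pow, hσx, smul_mul_smul_comm, hxyk, map_smul,
        hφ, mul_one, htpow _ (by omega), if_neg (by omega), smul_zero]
  have hnd : B.Nondegenerate := by
    have key : ∀ w : A, (∀ v, φ (w * v) = 0) → w = 0 := by
      intro w hw
      have hw' : ∀ v, top (w * v) = 0 := fun v => by
        have := hw (y ^ (n - 1) * v)
        rwa [hφ, mul_left_comm (x ^ (n - 1)), ← mul_assoc (x ^ (n - 1)), hxyk, one_mul] at this
      obtain ⟨P, rfl⟩ := AdjoinRoot.mk_surjective w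
      set Q := P %ₘ χ with hQdef
      have hQ : AdjoinRoot.mk χ P = AdjoinRoot.mk χ Q := by
        rw [AdjoinRoot.mk_eq_mk]
        exact ⟨P /ₘ χ, by linear_combination -(modByMonic_add_div P χ)⟩
      rw [hQ] at hw' ⊢
      by_contra h0
      have hQ0 : Q ≠ 0 := fun h => h0 (by rw [h, map_zero])
      have hQd : Q.natDegree < N := hd ▸ natDegree_modByMonic_lt P hm (fun h => by
        rw [h, natDegree_one] at hd; omega)
      have h := hw' (AdjoinRoot.mk χ (X ^ (N - 1 - Q.natDegree)))
      rw [← map_mul, htop _ (by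
        rw [natDegree_mul hQ0 (pow_ne_zero _ X_ne_zero), natDegree_X_pow]; omega),
        show N - 1 = Q.natDegree + (N - 1 - Q.natDegree) by omega, coeff_mul_X_pow',
        if_pos (by omega)] at h
      rw [show Q.natDegree + (N - 1 - Q.natDegree) -
        (Q.natDegree + (N - 1 - Q.natDegree) - Q.natDegree) = Q.natDegree by omega,
        coeff_natDegree, leadingCoeff_eq_zero] at h
      exact hQ0 h
    refine ⟨fun u hu => key u fun v => ?_, fun u hu => key u fun v => ?_⟩
    · have := hu (σ v)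
      rwa [hB, hσσ] at this
    · have := hu (σ v)
      rw [hB] at this
      have h2 := hflip (σ v) u
      rw [this, zero_add, hσσ] at h2
      exact h2
  have : Module.Finite K A := pb.finite
  obtain ⟨e, he⟩ := CfsgLib.Forms.alt_isometric B hnd halt (CfsgLib.Omega.sympBilin n K)
    (CfsgLib.Forms.sympBilin_nondeg n K) (CfsgLib.Forms.sympBilin_isAlt n K) (by
      rw [pb.finrank, hpd, Module.finrank_fintype_fun_eq_card, Fintype.card_sum, Fintype.card_fin]
      omega)
  let γ : A ≃ₗ[K] A := LinearEquiv.ofLinearMap (LinearMap.mulLeft K x) (LinearMap.mulLeft K y)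
    (LinearMap.ext fun a => by simp [← mul_assoc, hxy])
    (LinearMap.ext fun a => by simp [← mul_assoc, mul_comm y x, hxy])
  let G : (Fin n ⊕ Fin n → K) ≃ₗ[K] (Fin n ⊕ Fin n → K) := e.symm.trans (γ.trans e)
  have hG : ∀ u v, Cfsg.sympForm n K (G u) (G v) = Cfsg.sympForm n K u v := fun u v => by
    rw [← CfsgLib.Omega.sympBilin_apply, ← CfsgLib.Omega.sympBilin_apply]
    show CfsgLib.Omega.sympBilin n K (e (x * e.symm u)) (e (x * e.symm v)) = _
    rw [he, hB, map_mul σ, hσx, mul_mul_mul_comm, hxy, one_mul, ← hB, ← he, e.apply_symm_apply,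
      e.apply_symm_apply]
  refine ⟨CfsgLib.Forms.spOfEquiv G hG, ?_⟩
  show (LinearMap.toMatrix' G.toLinearMap).charpoly = χ
  rw [← Matrix.charpoly_toLin' (LinearMap.toMatrix' G.toLinearMap), Matrix.toLin'_toMatrix',
    show G.toLinearMap = e.conj (LinearMap.mulLeft K x) from rfl, LinearEquiv.charpoly_conj,
    ← LinearMap.charpoly_toMatrix _ pb.basis]
  show (Algebra.leftMulMatrix pb.basis x).charpoly = χ
  rw [← hpg, charpoly_leftMulMatrix, hpg, hx, AdjoinRoot.minpoly_root hm.ne_zero, hm.leadingCoeff,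
    inv_one, map_one, mul_one]

end Exists

section Count

universe w
variable {K : Type w} [Field K] [Fintype K] (p : ℕ) [Fact p.Prime] [CharP K p] {n : ℕ}

/-- The characteristic polynomial of a symplectic matrix is self-reciprocal. -/
theorem charpoly_palin (g : ↥(Matrix.symplecticGroup (Fin n) K)) :
    (g : Matrix (Fin n ⊕ Fin n) (Fin n ⊕ Fin n) K).charpoly.natDegree = 2 * n ∧
      ∀ k ≤ 2 * n, (g : Matrix (Fin n ⊕ Fin n) (Fin n ⊕ Fin n) K).charpoly.coeff k =
        (g : Matrix (Fin n ⊕ Fin n) (Fin n ⊕ Fin n) K).charpoly.coeff (2 * n - k) := by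
  set M := (g : Matrix (Fin n ⊕ Fin n) (Fin n ⊕ Fin n) K)
  have hd : M.charpoly.natDegree = 2 * n := by
    rw [Matrix.charpoly_natDegree_eq_dim, Fintype.card_sum, Fintype.card_fin, two_mul]
  refine ⟨hd, fun k hk => ?_⟩
  have h0 : M.charpoly.coeff 0 = 1 := by
    have h := Matrix.det_eq_sign_charpoly_coeff M
    rw [SymplecticGroup.det_eq_one g.2, Fintype.card_sum, Fintype.card_fin, ← two_mul, pow_mul,
      neg_one_sq, one_pow, one_mul] at h
    exact h.symm
  have hW : IsUnit (Matrix.J (Fin n) K).det := Matrix.isUnit_det_J _ _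
  have h := CfsgLib.Classes.SympSemi.rev_charpoly_of_form hW
    (SymplecticGroup.mem_iff'.1 g.2)
  conv_lhs => rw [← h, CfsgLib.Classes.SympSemi.rev, h0, inv_one, map_one, one_mul, coeff_reverse, hd,
    revAt_le hk]

/-- The coefficient sequence of a self-reciprocal polynomial with middle coefficients `v`. -/
def palinCoeff (v : Fin n → K) (k : ℕ) : K :=
  if h0 : k = 0 ∨ 2 * n ≤ k then 1
  else if h1 : k ≤ n then v ⟨k - 1, by omega⟩ else v ⟨2 * n - k - 1, by omega⟩

/-- The self-reciprocal polynomial with middle coefficients `v`. -/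
noncomputable def palinPoly (v : Fin n → K) : K[X] :=
  ∑ k ∈ Finset.range (2 * n + 1), monomial k (palinCoeff v k)

omit [Fintype K] in
theorem coeff_palinPoly (v : Fin n → K) (k : ℕ) :
    (palinPoly v).coeff k = if k ≤ 2 * n then palinCoeff v k else 0 := by
  classical
  rw [palinPoly, finsetSum_coeff]
  simp only [coeff_monomial, Finset.sum_ite_eq', Finset.mem_range, Nat.lt_succ_iff]

omit [Fintype K] in
theorem palinPoly_spec (v : Fin n → K) : (palinPoly v).Monic ∧ (palinPoly v).natDegree = 2 * n ∧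
    ∀ k ≤ 2 * n, (palinPoly v).coeff k = (palinPoly v).coeff (2 * n - k) := by
  have hdeg : (palinPoly v).natDegree ≤ 2 * n := natDegree_le_iff_coeff_eq_zero.2 fun k hk => by
    rw [coeff_palinPoly, if_neg (by omega)]
  have hlead : (palinPoly v).coeff (2 * n) = 1 := by
    rw [coeff_palinPoly, if_pos le_rfl, palinCoeff, dif_pos (Or.inr le_rfl)]
  refine ⟨monic_of_natDegree_le_of_coeff_eq_one _ hdeg hlead,
    natDegree_eq_of_le_of_coeff_ne_zero hdeg (by rw [hlead]; exact one_ne_zero), fun k hk => ?_⟩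
  rw [coeff_palinPoly, if_pos hk, coeff_palinPoly, if_pos (Nat.sub_le _ _), palinCoeff, palinCoeff]
  split_ifs <;> first | rfl | omega | (congr 1; ext; simp; omega)

/-- Self-reciprocal monic polynomials of degree `2 n` are given by `n` coefficients. -/
noncomputable def palinEquiv : {χ : K[X] // χ.Monic ∧ χ.natDegree = 2 * n ∧
    ∀ k ≤ 2 * n, χ.coeff k = χ.coeff (2 * n - k)} ≃ (Fin n → K) where
  toFun χ i := χ.1.coeff (i + 1)
  invFun v := ⟨palinPoly v, palinPoly_spec v⟩
  left_inv χ := Subtype.ext <| Polynomial.ext fun k => by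
    obtain ⟨χ, hm, hd, hs⟩ := χ
    show (palinPoly fun i : Fin n => χ.coeff (i + 1)).coeff k = χ.coeff k
    rw [coeff_palinPoly]
    by_cases hk : k ≤ 2 * n
    · rw [if_pos hk, palinCoeff]
      have hN : χ.coeff (2 * n) = 1 := by rw [← hd]; exact hm.coeff_natDegree
      split_ifs with h0 h1
      · rcases h0 with rfl | h0
        · rw [hs 0 (Nat.zero_le _), Nat.sub_zero, hN]
        · rw [le_antisymm hk h0, hN]
      · congr 1; simp; omega
      · rw [hs k hk]; congr 1; simp; omega
    · rw [if_neg hk, coeff_eq_zero_of_natDegree_lt (by omega)]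
  right_inv v := funext fun i => by
    show (palinPoly v).coeff (i + 1) = v i
    rw [coeff_palinPoly, if_pos (by omega), palinCoeff, dif_neg (by omega), dif_pos (by omega)]
    congr 1

/-- The classes of `p'`-elements of `Sp₂ₙ`. -/
theorem card_classes :
    Nat.card (PClasses ↥(Matrix.symplecticGroup (Fin n) K) p) = Fintype.card K ^ n := by
  classical
  let T := {χ : K[X] // χ.Monic ∧ χ.natDegree = 2 * n ∧
    ∀ k ≤ 2 * n, χ.coeff k = χ.coeff (2 * n - k)}
  let Φ : PClasses ↥(Matrix.symplecticGroup (Fin n) K) p → T := fun c =>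
    ⟨((c.2.choose : ↥(Matrix.symplecticGroup (Fin n) K)) :
      Matrix (Fin n ⊕ Fin n) (Fin n ⊕ Fin n) K).charpoly, Matrix.charpoly_monic _, charpoly_palin _⟩
  have hΦ : Function.Bijective Φ := by
    refine ⟨fun c d h => ?_, fun χ => ?_⟩
    · obtain ⟨hc, hcp⟩ := c.2.choose_spec
      obtain ⟨hd, hdp⟩ := d.2.choose_spec
      exact Subtype.ext (hc.symm.trans ((ConjClasses.mk_eq_mk_iff_isConj.2
        (isConj_Sp p _ _ hcp hdp (congrArg Subtype.val h))).trans hd))
    · obtain ⟨g, hg⟩ := exists_sp_charpoly χ.2.1 χ.2.2.1 χ.2.2.2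
      obtain ⟨⟨f, hf⟩, -, hq⟩ := FiniteField.card K p
      set a := (orderOf g).factorization p
      set h := g ^ (Fintype.card K ^ a) with hh
      have hcp : (orderOf h).Coprime p := by
        refine coprime_of_pow_eq_one (N := orderOf g / p ^ a)
          (Nat.coprime_ordCompl (Fact.out : p.Prime) (orderOf_pos g).ne').symm ?_
        rw [hh, ← pow_mul]
        refine orderOf_dvd_iff_pow_eq_one.1 ?_
        conv_lhs => rw [← Nat.ordProj_mul_ordCompl_eq_self (orderOf g) p]
        rw [hq]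
        exact Nat.mul_dvd_mul (pow_dvd_pow_of_dvd (dvd_pow_self p hf.ne') _) dvd_rfl
      have hpw : ∀ (b : ℕ) (M : Matrix (Fin n ⊕ Fin n) (Fin n ⊕ Fin n) K),
          (M ^ (Fintype.card K ^ b)).charpoly = M.charpoly := by
        intro b
        induction b with
        | zero => intro M; simp
        | succ b ih =>
          intro M
          rw [pow_succ, pow_mul, FiniteField.Matrix.charpoly_pow_card, ih]
      have hhc : (h : Matrix (Fin n ⊕ Fin n) (Fin n ⊕ Fin n) K).charpoly = χ.1 := by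
        rw [hh, SubmonoidClass.coe_pow, hpw, hg]
      refine ⟨⟨ConjClasses.mk h, h, rfl, hcp⟩, Subtype.ext ?_⟩
      set c : PClasses ↥(Matrix.symplecticGroup (Fin n) K) p := ⟨ConjClasses.mk h, h, rfl, hcp⟩
      obtain ⟨hc, -⟩ := c.2.choose_spec
      obtain ⟨u, hu⟩ := ConjClasses.mk_eq_mk_iff_isConj.1 hc
      show ((c.2.choose : ↥(Matrix.symplecticGroup (Fin n) K)) :
        Matrix (Fin n ⊕ Fin n) (Fin n ⊕ Fin n) K).charpoly = χ.1
      have hu' := congrArg (fun z : ↥(Matrix.symplecticGroup (Fin n) K) =>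
        (z : Matrix (Fin n ⊕ Fin n) (Fin n ⊕ Fin n) K)) hu.eq
      let U : (Matrix (Fin n ⊕ Fin n) (Fin n ⊕ Fin n) K)ˣ :=
        Units.map (Matrix.symplecticGroup (Fin n) K).subtype u
      rw [← hhc, ← Matrix.charpoly_units_conj U]
      congr 1
      rw [← Matrix.coe_units_inv, Units.mul_inv_eq_iff_eq_mul]
      exact hu'
  rw [Nat.card_eq_of_bijective Φ hΦ, Nat.card_congr palinEquiv, Nat.card_pi, Finset.prod_const,
    Finset.card_univ, Fintype.card_fin, Nat.card_eq_fintype_card]

end Count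

end CfsgLib.SemisimpleClasses.Symp
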